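import Groth.Agent.S1467
import Groth.Agent.S2750
import Groth.Agent.S9812
import Groth.Agent.S1182
import Groth.Agent.NormalTensor.Basic
import Groth.Agent.WLocalLib.Olivier
import Groth.Agent.DRingLib.WeaklyEtaleAmp
import Groth.Agent.GorSp.GorMap
import Mathlib.FieldTheory.PurelyInseparable.Basic

/-!
# Local rings weakly étale over smooth algebras over normal domains

The base change of a strict localization of a smooth algebra to a normal strictly local domain is a
domain.
-/

set_option autoImplicit false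
set_option linter.style.haveILetI false
set_option linter.unusedSectionVars false
set_option maxHeartbeats 1000000

universe u

open IsLocalRing TensorProduct

noncomputable section

namespace Groth.Agent.SmoothConnLib

/-- A local ring weakly étale over a normal local domain is a domain. -/
theorem isDomain_of_weaklyEtale (A B : Type u) [CommRing A] [IsLocalRing A] [IsDomain A] [IsIntegrallyClosed A]
    [CommRing B] [IsLocalRing B] [Algebra A B] [IsLocalHom (algebraMap A B)] [Algebra.WeaklyEtale A B] :
    IsDomain B := by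
  let T := Henselization.StrictHenselizationRing B
  haveI hT : Hensel.IsStrictHenselization B T := inferInstance
  letI : Algebra A T := ((algebraMap B T).comp (algebraMap A B)).toAlgebra
  haveI : IsScalarTower A B T := IsScalarTower.of_algebraMap_eq fun _ => rfl
  obtain ⟨hloc, hsh⟩ := S1467.sh_of_weaklyEtale A B T
  haveI := hloc
  haveI := hsh
  haveI : IsDomain T := (S2750.result A T).1 ⟨inferInstance, S9812.result A⟩
  haveI := S1467.weaklyEtale_sh B T
  haveI : Module.FaithfullyFlat B T := Module.FaithfullyFlat.of_flat_of_isLocalHom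
  exact Function.Injective.isDomain (algebraMap B T) (FaithfulSMul.algebraMap_injective B T)

/-- A local ring weakly étale over a normal ring is a domain. -/
theorem isDomain_of_weaklyEtale_normal (P B : Type u) [CommRing P] (hP : EGA4.IsNormalRing P)
    [CommRing B] [IsLocalRing B] [Algebra P B] [Algebra.WeaklyEtale P B] : IsDomain B := by
  let q := (maximalIdeal B).comap (algebraMap P B)
  let A := Localization.AtPrime q
  obtain ⟨hd, hn⟩ := hP q
  have hu : ∀ y : q.primeCompl, IsUnit (algebraMap P B y) := fun y => by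
    by_contra h
    exact y.2 ((mem_maximalIdeal _).2 h)
  let l : A →+* B := IsLocalization.lift hu
  letI : Algebra A B := l.toAlgebra
  haveI : IsScalarTower P A B := IsScalarTower.of_algebraMap_eq fun x => (IsLocalization.lift_eq hu x).symm
  haveI : IsLocalHom (algebraMap A B) := ⟨fun a ha => by
    obtain ⟨⟨x, s⟩, rfl⟩ : ∃ xs : P × q.primeCompl, IsLocalization.mk' A xs.1 xs.2 = a := by
      obtain ⟨x, s, h⟩ := IsLocalization.exists_mk'_eq q.primeCompl a
      exact ⟨⟨x, s⟩, h⟩
    rw [IsLocalization.AtPrime.isUnit_mk'_iff A q x s]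
    intro hx
    refine (mem_maximalIdeal _).1 hx ?_
    have e : algebraMap P B x = algebraMap A B (IsLocalization.mk' A x s) * algebraMap P B s := by
      rw [IsScalarTower.algebraMap_apply P A B, IsScalarTower.algebraMap_apply P A B (s : P), ← map_mul,
        IsLocalization.mk'_spec]
    rw [e]
    exact ha.mul (hu s)⟩
  haveI : Algebra.WeaklyEtale A B := WLocalLib.weaklyEtale_of_isLocalization_base q.primeCompl
  exact isDomain_of_weaklyEtale A B

section Local

variable (RS RX R' : Type u) [CommRing RS] [IsLocalRing RS] [IsSepClosed (ResidueField RS)] [CommRing RX]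
  [IsLocalRing RX] [CommRing R'] [IsLocalRing R'] [Algebra RS RX] [IsLocalHom (algebraMap RS RX)] [Algebra RS R']
  [Algebra.IsIntegral RS R']

/-- The tensor product with an integral local algebra over a ring with separably closed residue field is local. -/
theorem isLocalRing_tensor : IsLocalRing (RX ⊗[RS] R') := by
  haveI : IsLocalHom (algebraMap RS R') :=
    ((IsLocalRing.local_hom_TFAE (algebraMap RS R')).out 4 0).mp
      (IsLocalRing.eq_maximalIdeal (Ideal.isMaximal_comap_of_isIntegral_of_isMaximal (R := RS) (maximalIdeal R')))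
  haveI : Algebra.IsAlgebraic (ResidueField RS) (ResidueField R') := by
    refine ⟨fun z => ?_⟩
    obtain ⟨r, rfl⟩ := residue_surjective (R := R') z
    obtain ⟨p, hp, hr⟩ := Algebra.IsIntegral.isIntegral (R := RS) r
    refine IsIntegral.isAlgebraic ⟨p.map (residue RS), hp.map _, ?_⟩
    rw [Polynomial.eval₂_map]
    have h := congrArg (residue R') hr
    rw [Polynomial.hom_eval₂, map_zero] at h
    exact h
  obtain ⟨q, hq⟩ := ExpChar.exists (ResidueField RS)
  haveI : Nontrivial (RX ⊗[RS] R') := by
    let F := AlgebraicClosure (ResidueField RX)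
    letI : Algebra (ResidueField RS) F :=
      ((algebraMap (ResidueField RX) F).comp (algebraMap (ResidueField RS) (ResidueField RX))).toAlgebra
    let τ : ResidueField R' →ₐ[ResidueField RS] F := IsAlgClosed.lift
    letI : Algebra RS F := ((algebraMap (ResidueField RS) F).comp (residue RS)).toAlgebra
    let jX : RX →ₐ[RS] F :=
      { toRingHom := (algebraMap (ResidueField RX) F).comp (residue RX)
        commutes' := fun _ => rfl }
    let jR : R' →ₐ[RS] F :=
      { toRingHom := τ.toRingHom.comp (residue R')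
        commutes' := fun r => τ.commutes (residue RS r) }
    exact RingHom.domain_nontrivial (Algebra.TensorProduct.lift jX jR fun _ _ => Commute.all _ _).toRingHom
  let B := RX ⊗[RS] R'
  let iX : RX →ₐ[RX] B := Algebra.ofId RX B
  have key : ∀ b : B, ∃ (n : ℕ) (x : RX), ∀ (M : Ideal B) [M.IsMaximal],
      Ideal.Quotient.mk M (b ^ q ^ n) = Ideal.Quotient.mk M (x ⊗ₜ[RS] 1) := by
    have hexp : ∀ (M : Ideal B) [M.IsMaximal], ExpChar (B ⧸ M) q ∧
        (∀ x : RX, x ∈ maximalIdeal RX → Ideal.Quotient.mk M (x ⊗ₜ[RS] 1) = 0) ∧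
        (∀ r : R', r ∈ maximalIdeal R' → Ideal.Quotient.mk M ((1 : RX) ⊗ₜ[RS] r) = 0) := by
      intro M _
      letI : Field (B ⧸ M) := Ideal.Quotient.field M
      have hR' : ∀ r : R', r ∈ maximalIdeal R' → Ideal.Quotient.mk M ((1 : RX) ⊗ₜ[RS] r) = 0 := by
        haveI : Algebra.IsIntegral RX B := Algebra.IsIntegral.tensorProduct RS RX R'
        let φ : R' →+* B ⧸ M :=
          (Ideal.Quotient.mk M).comp (Algebra.TensorProduct.includeRight (R := RS) (A := RX) (B := R')).toRingHom
        have hk : RingHom.ker φ ≤ maximalIdeal R' := IsLocalRing.le_maximalIdeal (RingHom.ker_ne_top φ)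
        haveI : (RingHom.ker φ).IsPrime := RingHom.ker_isPrime φ
        have hx : maximalIdeal RX = M.comap (algebraMap RX B) :=
          (IsLocalRing.eq_maximalIdeal (Ideal.isMaximal_comap_of_isIntegral_of_isMaximal (R := RX) M)).symm
        have hm : (RingHom.ker φ).comap (algebraMap RS R') = maximalIdeal RS := by
          ext s
          rw [Ideal.mem_comap, RingHom.mem_ker]
          show Ideal.Quotient.mk M ((1 : RX) ⊗ₜ[RS] algebraMap RS R' s) = 0 ↔ _
          rw [Ideal.Quotient.eq_zero_iff_mem, Algebra.algebraMap_eq_smul_one, TensorProduct.tmul_smul,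
            TensorProduct.smul_tmul', ← Algebra.algebraMap_eq_smul_one]
          show algebraMap RX B (algebraMap RS RX s) ∈ M ↔ _
          rw [← Ideal.mem_comap, ← hx, mem_maximalIdeal, mem_maximalIdeal]
          exact not_congr (isUnit_map_iff (algebraMap RS RX) s)
        have : (RingHom.ker φ).IsMaximal :=
          Ideal.isMaximal_of_isIntegral_of_isMaximal_comap (R := RS) _ (by rw [hm]; exact maximalIdeal.isMaximal RS)
        intro r hr
        rw [← IsLocalRing.eq_maximalIdeal this] at hr
        exact hr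
      have hX : ∀ x : RX, x ∈ maximalIdeal RX → Ideal.Quotient.mk M (x ⊗ₜ[RS] 1) = 0 := by
        haveI : Algebra.IsIntegral RX B := Algebra.IsIntegral.tensorProduct RS RX R'
        intro x hx
        rw [← IsLocalRing.eq_maximalIdeal (Ideal.isMaximal_comap_of_isIntegral_of_isMaximal (R := RX) M)] at hx
        exact Ideal.Quotient.eq_zero_iff_mem.2 hx
      refine ⟨?_, hX, hR'⟩
      let φ : RS →+* B ⧸ M := (Ideal.Quotient.mk M).comp ((algebraMap RX B).comp (algebraMap RS RX))
      have hφ : ∀ s ∈ maximalIdeal RS, φ s = 0 := fun s hs =>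
        hX _ ((mem_maximalIdeal _).2 fun h => (mem_maximalIdeal _).1 hs ((isUnit_map_iff (algebraMap RS RX) s).1 h))
      let ψ : ResidueField RS →+* B ⧸ M := Ideal.Quotient.lift (maximalIdeal RS) φ hφ
      exact expChar_of_injective_ringHom ψ.injective q
    intro b
    induction b using TensorProduct.induction_on with
    | zero => exact ⟨0, 0, fun M _ => by rw [pow_zero, pow_one, TensorProduct.zero_tmul]⟩
    | tmul x r =>
      haveI : IsPurelyInseparable (ResidueField RS) (ResidueField R') := inferInstance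
      obtain ⟨n, t, ht⟩ := IsPurelyInseparable.pow_mem (ResidueField RS) q (residue R' r)
      obtain ⟨s, rfl⟩ := residue_surjective t
      refine ⟨n, x ^ q ^ n * algebraMap RS RX s, fun M _ => ?_⟩
      have hm : r ^ q ^ n - algebraMap RS R' s ∈ maximalIdeal R' := by
        rw [← residue_eq_zero_iff, map_sub, map_pow, ← ht, sub_eq_zero]
        rfl
      have h0 := (hexp M).2.2 _ hm
      rw [TensorProduct.tmul_sub, map_sub, sub_eq_zero] at h0
      rw [Algebra.TensorProduct.tmul_pow]
      calc Ideal.Quotient.mk M ((x ^ q ^ n) ⊗ₜ[RS] (r ^ q ^ n))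
          = Ideal.Quotient.mk M ((x ^ q ^ n) ⊗ₜ[RS] 1) * Ideal.Quotient.mk M (1 ⊗ₜ[RS] (r ^ q ^ n)) := by
            rw [← map_mul, Algebra.TensorProduct.tmul_mul_tmul, mul_one, one_mul]
        _ = Ideal.Quotient.mk M ((x ^ q ^ n) ⊗ₜ[RS] 1) * Ideal.Quotient.mk M (1 ⊗ₜ[RS] algebraMap RS R' s) := by
            rw [h0]
        _ = _ := by
            rw [← map_mul, Algebra.TensorProduct.tmul_mul_tmul, mul_one, one_mul, Algebra.algebraMap_eq_smul_one,
              TensorProduct.tmul_smul, TensorProduct.smul_tmul', Algebra.smul_def, mul_comm]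
    | add a b ha hb =>
      obtain ⟨n, x, hx⟩ := ha
      obtain ⟨m, y, hy⟩ := hb
      refine ⟨n + m, x ^ q ^ m + y ^ q ^ n, fun M _ => ?_⟩
      haveI := (hexp M).1
      rw [map_pow, map_add, add_pow_expChar_pow, TensorProduct.add_tmul, map_add]
      congr 1
      · rw [pow_add, pow_mul, ← map_pow, hx M, ← map_pow, Algebra.TensorProduct.tmul_pow, one_pow]
      · rw [pow_add, mul_comm (q ^ n), pow_mul, ← map_pow, hy M, ← map_pow, Algebra.TensorProduct.tmul_pow, one_pow]
  obtain ⟨M₀, hM₀⟩ := Ideal.exists_maximal B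
  refine IsLocalRing.of_unique_max_ideal ⟨M₀, hM₀, fun M hM => ?_⟩
  haveI : Algebra.IsIntegral RX B := Algebra.IsIntegral.tensorProduct RS RX R'
  have hcomap : ∀ (N : Ideal B) [N.IsMaximal] (x : RX), x ⊗ₜ[RS] (1 : R') ∈ N ↔ x ∈ maximalIdeal RX := by
    intro N _ x
    rw [← IsLocalRing.eq_maximalIdeal (Ideal.isMaximal_comap_of_isIntegral_of_isMaximal (R := RX) N)]
    rfl
  ext b
  obtain ⟨n, x, hx⟩ := key b
  have hq0 : q ^ n ≠ 0 := pow_ne_zero _ (expChar_ne_zero (ResidueField RS) q)
  have h : ∀ (N : Ideal B) [N.IsMaximal], b ∈ N ↔ x ∈ maximalIdeal RX := by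
    intro N hN
    rw [← hcomap N, ← hN.isPrime.pow_mem_iff_mem (r := b) (q ^ n) (Nat.pos_of_ne_zero hq0),
      ← Ideal.Quotient.eq_zero_iff_mem, hx N, Ideal.Quotient.eq_zero_iff_mem]
  rw [h M, h M₀]

end Local

section Push

variable (V P RS RX R' : Type u) [CommRing V] [CommRing P] [CommRing RS] [CommRing RX] [CommRing R']
  [Algebra V P] [Algebra V RS] [Algebra V RX] [Algebra P RX] [Algebra RS RX] [IsScalarTower V P RX]
  [IsScalarTower V RS RX] [Algebra.WeaklyEtale V RS] [Algebra.WeaklyEtale P RX]
  [Algebra V R'] [Algebra RS R'] [IsScalarTower V RS R']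

/-- The structure of the base change over the polynomial side. -/
def pushHom : P ⊗[V] R' →ₐ[V] RX ⊗[RS] R' :=
  Algebra.TensorProduct.lift
    ((IsScalarTower.toAlgHom V RX (RX ⊗[RS] R')).comp (IsScalarTower.toAlgHom V P RX))
    ((Algebra.TensorProduct.includeRight (R := RS) (A := RX) (B := R')).restrictScalars V)
    fun _ _ => Commute.all _ _

theorem pushHom_tmul (p : P) (r : R') : pushHom V P RS RX R' (p ⊗ₜ r) = algebraMap P RX p ⊗ₜ r := by
  simp [pushHom]

/-- The base change of a weakly étale algebra over the pushout is weakly étale. -/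
theorem weaklyEtale_pushHom :
    letI := (pushHom V P RS RX R').toRingHom.toAlgebra
    Algebra.WeaklyEtale (P ⊗[V] R') (RX ⊗[RS] R') := by
  let Q := P ⊗[V] RS
  let P' := P ⊗[V] R'
  let B := RX ⊗[RS] R'
  letI algB : Algebra P' B := (pushHom V P RS RX R').toRingHom.toAlgebra
  let lQ : Q →ₐ[P] RX :=
    Algebra.TensorProduct.lift (Algebra.ofId P RX) (IsScalarTower.toAlgHom V RS RX) fun _ _ => Commute.all _ _
  have hlQ : ∀ (p : P) (s : RS), lQ (p ⊗ₜ s) = algebraMap P RX p * algebraMap RS RX s := fun p s =>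
    Algebra.TensorProduct.lift_tmul _ _ _ p s
  let mQ : Q →ₐ[V] P' := Algebra.TensorProduct.map (AlgHom.id V P) (IsScalarTower.toAlgHom V RS R')
  have hmQ : ∀ (p : P) (s : RS), mQ (p ⊗ₜ s) = p ⊗ₜ algebraMap RS R' s := fun p s =>
    Algebra.TensorProduct.map_tmul _ _ p s
  letI : Algebra Q RX := lQ.toRingHom.toAlgebra
  haveI : IsScalarTower P Q RX := IsScalarTower.of_algebraMap_eq fun p => (lQ.commutes p).symm
  haveI : Algebra.WeaklyEtale Q RX := DRingLib.weaklyEtale_of_restrictScalars P Q RX
  letI : Algebra Q P' := mQ.toRingHom.toAlgebra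
  have hQB : ∀ z : Q, algebraMap P' B (algebraMap Q P' z) = (lQ z) ⊗ₜ[RS] (1 : R') := by
    intro z
    show pushHom V P RS RX R' (mQ z) = _
    induction z using TensorProduct.induction_on with
    | zero => simp
    | tmul p s =>
      rw [hmQ, pushHom_tmul, hlQ, Algebra.algebraMap_eq_smul_one (A := R'), TensorProduct.tmul_smul,
        TensorProduct.smul_tmul', Algebra.smul_def, mul_comm]
    | add a b ha hb => rw [map_add, map_add, map_add, ha, hb, TensorProduct.add_tmul]
  haveI : IsScalarTower Q P' B := IsScalarTower.of_algebraMap_eq fun z => (hQB z).symm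
  let g : RX →ₐ[Q] B :=
    { toRingHom := (Algebra.TensorProduct.includeLeft (R := RS) (S := RS) (A := RX) (B := R')).toRingHom
      commutes' := fun z => rfl }
  let fwd : P' ⊗[Q] RX →ₐ[P'] B :=
    Algebra.TensorProduct.lift (Algebra.ofId P' B) g fun _ _ => Commute.all _ _
  have hfwd : ∀ (a : P') (x : RX), fwd (a ⊗ₜ x) = pushHom V P RS RX R' a * (x ⊗ₜ[RS] 1) := fun a x => by
    simp [fwd, g]
    rfl
  let T := P' ⊗[Q] RX
  let iR : RX →+* T := (Algebra.TensorProduct.includeRight (R := Q) (A := P') (B := RX)).toRingHom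
  letI : Algebra RS T := (iR.comp (algebraMap RS RX)).toAlgebra
  have hs : ∀ s : RS, ((1 : P) ⊗ₜ[V] algebraMap RS R' s : P') ⊗ₜ[Q] (1 : RX) = algebraMap RS T s := by
    intro s
    show _ = (1 : P') ⊗ₜ[Q] algebraMap RS RX s
    have e1 : ((1 : P) ⊗ₜ[V] algebraMap RS R' s : P') = ((1 : P) ⊗ₜ[V] s : Q) • (1 : P') := by
      rw [Algebra.smul_def, mul_one]
      exact (hmQ 1 s).symm
    have e2 : algebraMap RS RX s = ((1 : P) ⊗ₜ[V] s : Q) • (1 : RX) := by
      rw [Algebra.smul_def, mul_one]
      show _ = lQ (1 ⊗ₜ s)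
      rw [hlQ, map_one, one_mul]
    rw [e1, e2, TensorProduct.smul_tmul]
  let jR : R' →ₐ[RS] T :=
    { toRingHom := ((Algebra.TensorProduct.includeLeft (R := Q) (S := Q) (A := P') (B := RX)).toRingHom).comp
        (Algebra.TensorProduct.includeRight (R := V) (A := P) (B := R')).toRingHom
      commutes' := fun s => hs s }
  let jX : RX →ₐ[RS] T := { toRingHom := iR, commutes' := fun _ => rfl }
  let bwd : B →ₐ[RS] T := Algebra.TensorProduct.lift jX jR fun _ _ => Commute.all _ _
  have hbwd : ∀ (x : RX) (r : R'), bwd (x ⊗ₜ r) = ((1 : P) ⊗ₜ[V] r : P') ⊗ₜ[Q] x := by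
    intro x r
    refine (Algebra.TensorProduct.lift_tmul _ _ _ x r).trans ?_
    show ((1 : P') ⊗ₜ[Q] x) * (((1 : P) ⊗ₜ[V] r : P') ⊗ₜ[Q] (1 : RX)) = _
    rw [Algebra.TensorProduct.tmul_mul_tmul, one_mul, mul_one]
  have h1 : ∀ y : B, fwd (bwd y) = y := by
    intro y
    induction y using TensorProduct.induction_on with
    | zero => simp
    | tmul x r =>
      rw [hbwd, hfwd, pushHom_tmul, map_one, Algebra.TensorProduct.tmul_mul_tmul, one_mul, mul_one]
    | add a b ha hb => rw [map_add, map_add, ha, hb]
  have h2 : ∀ t : T, bwd (fwd t) = t := by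
    intro t
    induction t using TensorProduct.induction_on with
    | zero => simp
    | tmul a x =>
      rw [hfwd, map_mul, hbwd]
      induction a using TensorProduct.induction_on with
      | zero => simp
      | tmul p r =>
        rw [pushHom_tmul, hbwd, Algebra.TensorProduct.tmul_mul_tmul]
        have e : algebraMap P RX p = (p ⊗ₜ[V] (1 : RS) : Q) • (1 : RX) := by
          rw [Algebra.smul_def, mul_one]
          show _ = lQ (p ⊗ₜ 1)
          rw [hlQ, map_one, mul_one]
        rw [e, smul_one_mul, TensorProduct.tmul_smul, TensorProduct.smul_tmul', Algebra.smul_def]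
        show (mQ (p ⊗ₜ 1) * (((1 : P) ⊗ₜ[V] r : P') * ((1 : P) ⊗ₜ[V] (1 : R')))) ⊗ₜ[Q] x = _
        rw [hmQ, map_one, Algebra.TensorProduct.tmul_mul_tmul, Algebra.TensorProduct.tmul_mul_tmul, mul_one,
          mul_one, mul_one, one_mul]
      | add a b ha hb => rw [map_add, map_add, add_mul, ha, hb, TensorProduct.add_tmul]
    | add a b ha hb => rw [map_add, map_add, ha, hb]
  let e : T ≃ₐ[P'] B := AlgEquiv.ofBijective fwd ⟨Function.LeftInverse.injective h2, Function.RightInverse.surjective h1⟩
  exact GorSp.weaklyEtale_of_algEquiv e inferInstance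

end Push

/-- Smooth algebras: the base change of a local ring weakly étale over a smooth algebra to a normal
domain integral over a strictly local base is a domain. -/
theorem isDomain_tensor (V P RS RX R' : Type u) [CommRing V] [CommRing P] [CommRing RS] [CommRing RX] [CommRing R']
    [IsLocalRing RS] [IsSepClosed (ResidueField RS)] [IsLocalRing RX] [IsLocalRing R'] [IsDomain R']
    [IsIntegrallyClosed R'] [Algebra V P] [Algebra.Smooth V P] [Algebra V RS] [Algebra V RX] [Algebra P RX]
    [Algebra RS RX] [IsLocalHom (algebraMap RS RX)] [Module.Flat RS RX] [IsScalarTower V P RX]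
    [IsScalarTower V RS RX] [Algebra.WeaklyEtale V RS] [Algebra.WeaklyEtale P RX]
    [Algebra V R'] [Algebra RS R'] [IsScalarTower V RS R'] [Algebra.IsIntegral RS R'] :
    IsDomain (RX ⊗[RS] R') := by
  letI := (pushHom V P RS RX R').toRingHom.toAlgebra
  haveI : Algebra.WeaklyEtale (P ⊗[V] R') (RX ⊗[RS] R') := weaklyEtale_pushHom V P RS RX R'
  haveI := isLocalRing_tensor RS RX R'
  refine isDomain_of_weaklyEtale_normal (P ⊗[V] R') (RX ⊗[RS] R') ?_
  exact NormalTensor.isNormalRing_of_ringEquiv (Algebra.TensorProduct.comm V R' P).toRingEquiv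
    ((S1182.result R' (R' ⊗[V] P)).1 (NormalTensor.isNormalRing_of_domain R'))

end Groth.Agent.SmoothConnLib
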