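import Groth.Agent.SmoothConnLib.Domain
import Groth.Agent.GeomIrred.Scheme
import Mathlib.RingTheory.Localization.Integral
import Mathlib.AlgebraicGeometry.Morphisms.Smooth

/-!
# Geometric fibres of maps of strict localizations of smooth morphisms are connected
-/

set_option autoImplicit false
set_option linter.style.haveILetI false
set_option linter.unusedSectionVars false
set_option backward.isDefEq.respectTransparency false
set_option maxHeartbeats 1000000

universe u

open CategoryTheory CategoryTheory.Limits AlgebraicGeometry IsLocalRing TensorProduct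

noncomputable section

namespace Groth.Agent.SmoothConnLib

variable {V P RS RX : Type u} [CommRing V] [CommRing P] [CommRing RS] [CommRing RX]
  [IsLocalRing RX] [HenselianLocalRing RS] [IsSepClosed (ResidueField RS)]
  [Algebra V P] [Algebra.Smooth V P] [Algebra V RS] [Algebra V RX] [Algebra P RX]
  [Algebra RS RX] [IsLocalHom (algebraMap RS RX)] [Module.Flat RS RX] [IsScalarTower V P RX]
  [IsScalarTower V RS RX] [Algebra.WeaklyEtale V RS] [Algebra.WeaklyEtale P RX]

include V P in
/-- The geometric fibres of `Spec RX → Spec RS` are connected. -/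
theorem connectedSpace_geomFibre {Ω : Type u} [Field Ω] [IsAlgClosed Ω]
    (η : Spec (CommRingCat.of Ω) ⟶ Spec (CommRingCat.of RS)) :
    ConnectedSpace ↥(pullback (Spec.map (CommRingCat.ofHom (algebraMap RS RX))) η) := by
  obtain ⟨ω, rfl⟩ := Spec.map_surjective η
  let p := RingHom.ker ω.hom
  haveI : p.IsPrime := RingHom.ker_isPrime _
  let A := RS ⧸ p
  let ω' : A →+* Ω := RingHom.kerLift ω.hom
  have hω' : Function.Injective ω' := RingHom.kerLift_injective ω.hom
  let K := FractionRing A
  let ωK : K →+* Ω := IsFractionRing.lift hω'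
  let L := AlgebraicClosure K
  letI : Algebra K Ω := ωK.toAlgebra
  let j : L →ₐ[K] Ω := IsAlgClosed.lift
  let R' := integralClosure A L
  haveI : Algebra.IsAlgebraic A K := IsLocalization.isAlgebraic K (nonZeroDivisors A)
  haveI : Algebra.IsAlgebraic A L := Algebra.IsAlgebraic.trans A K L
  have hinjAL : ∀ x : A, algebraMap A L x = 0 → x = 0 := fun x hx => by
    rw [IsScalarTower.algebraMap_apply A K L, map_eq_zero, map_eq_zero_iff _ (IsFractionRing.injective A K)] at hx
    exact hx
  haveI : IsFractionRing R' L := integralClosure.isFractionRing_of_algebraic hinjAL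
  haveI : IsIntegrallyClosed R' :=
    (isIntegrallyClosed_iff L).2 fun {x} hx => ⟨⟨x, isIntegral_trans (R := A) x hx⟩, rfl⟩
  letI : Algebra RS R' := ((algebraMap A R').comp (Ideal.Quotient.mk p)).toAlgebra
  haveI : IsScalarTower RS A K := inferInstance
  haveI : IsScalarTower RS A L := IsScalarTower.of_algebraMap_eq fun x => by
    rw [IsScalarTower.algebraMap_apply RS K L, IsScalarTower.algebraMap_apply RS A K,
      ← IsScalarTower.algebraMap_apply A K L]
  haveI : IsScalarTower RS R' L := IsScalarTower.of_algebraMap_eq fun x => IsScalarTower.algebraMap_apply RS A L x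
  haveI : IsScalarTower RS A R' := IsScalarTower.of_algebraMap_eq fun _ => rfl
  haveI : Algebra.IsIntegral RS A := Algebra.IsIntegral.of_surjective (Algebra.ofId RS A) Ideal.Quotient.mk_surjective
  haveI : Algebra.IsIntegral RS R' := Algebra.IsIntegral.trans A
  haveI : IsLocalRing R' := WLocalLib.isLocalRing_of_isIntegral RS R'
  letI : Algebra V R' := ((algebraMap RS R').comp (algebraMap V RS)).toAlgebra
  haveI : IsScalarTower V RS R' := IsScalarTower.of_algebraMap_eq fun _ => rfl
  haveI := isDomain_tensor V P RS RX R'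
  let B := RX ⊗[RS] R'
  let C := RX ⊗[RS] L
  let u : B →ₐ[RS] C := Algebra.TensorProduct.map (AlgHom.id RS RX) (IsScalarTower.toAlgHom RS R' L)
  have hu : Function.Injective u := by
    have h := Module.Flat.lTensor_preserves_injective_linearMap (M := RX)
      (IsScalarTower.toAlgHom RS R' L).toLinearMap (IsFractionRing.injective R' L)
    exact fun a b e => h e
  have hgen : ∀ c : C, ∃ (b : B) (d : R'), d ≠ 0 ∧ c * ((1 : RX) ⊗ₜ[RS] algebraMap R' L d) = u b := by
    intro c
    induction c using TensorProduct.induction_on with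
    | zero => exact ⟨0, 1, one_ne_zero, by rw [zero_mul, map_zero]⟩
    | tmul x l =>
      obtain ⟨⟨a, d⟩, had⟩ := IsLocalization.surj (nonZeroDivisors R') l
      refine ⟨x ⊗ₜ a, d, nonZeroDivisors.ne_zero d.2, ?_⟩
      rw [Algebra.TensorProduct.tmul_mul_tmul, mul_one, had]
      rfl
    | add c₁ c₂ h₁ h₂ =>
      obtain ⟨b₁, d₁, hd₁, e₁⟩ := h₁
      obtain ⟨b₂, d₂, hd₂, e₂⟩ := h₂
      refine ⟨b₁ * ((1 : RX) ⊗ₜ[RS] d₂) + b₂ * ((1 : RX) ⊗ₜ[RS] d₁), d₁ * d₂, mul_ne_zero hd₁ hd₂, ?_⟩
      have hd : ∀ d : R', u ((1 : RX) ⊗ₜ[RS] d) = (1 : RX) ⊗ₜ[RS] algebraMap R' L d := fun d => rfl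
      have hm : ((1 : RX) ⊗ₜ[RS] algebraMap R' L (d₁ * d₂)) =
          ((1 : RX) ⊗ₜ[RS] algebraMap R' L d₁) * ((1 : RX) ⊗ₜ[RS] algebraMap R' L d₂) := by
        rw [Algebra.TensorProduct.tmul_mul_tmul, one_mul, map_mul]
      rw [hm, map_add, map_mul u b₁, map_mul u b₂, hd d₂, hd d₁, ← e₁, ← e₂]
      ring
  haveI : Module.FaithfullyFlat RS RX := Module.FaithfullyFlat.of_flat_of_isLocalHom
  haveI : Nontrivial C := Module.FaithfullyFlat.lTensor_nontrivial RS RX L
  have hdu : ∀ d : R', d ≠ 0 → IsUnit ((1 : RX) ⊗ₜ[RS] algebraMap R' L d : C) := fun d hd =>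
    (isUnit_iff_ne_zero.2 ((map_ne_zero_iff _ (IsFractionRing.injective R' L)).2 hd)).map
      (Algebra.TensorProduct.includeRight (R := RS) (A := RX) (B := L))
  haveI : NoZeroDivisors C := ⟨fun {c₁ c₂} h => by
    obtain ⟨b₁, d₁, hd₁, e₁⟩ := hgen c₁
    obtain ⟨b₂, d₂, hd₂, e₂⟩ := hgen c₂
    have h0 : u (b₁ * b₂) = 0 := by
      rw [map_mul, ← e₁, ← e₂, mul_mul_mul_comm, h, zero_mul]
    rcases mul_eq_zero.1 ((map_eq_zero_iff _ hu).1 h0) with hb | hb
    · left
      rw [hb, map_zero] at e₁
      exact (hdu d₁ hd₁).mul_left_eq_zero.1 e₁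
    · right
      rw [hb, map_zero] at e₂
      exact (hdu d₂ hd₂).mul_left_eq_zero.1 e₂⟩
  haveI : IsDomain C := NoZeroDivisors.to_isDomain C
  haveI : ConnectedSpace ↥(Spec (CommRingCat.of C)) :=
    inferInstanceAs (ConnectedSpace (PrimeSpectrum C))
  let eL := pullbackSpecIso RS RX L
  haveI : ConnectedSpace ↥(pullback (Spec.map (CommRingCat.ofHom (algebraMap RS RX)))
      (Spec.map (CommRingCat.ofHom (algebraMap RS L)))) :=
    GeomIrred.connectedSpace_of_surjective eL.inv eL.inv.surjective inferInstance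
  have hfac : Spec.map ω =
      Spec.map (CommRingCat.ofHom j.toRingHom) ≫ Spec.map (CommRingCat.ofHom (algebraMap RS L)) := by
    rw [← Spec.map_comp]
    congr 1
    refine CommRingCat.hom_ext (RingHom.ext fun s => ?_)
    show ω.hom s = j (algebraMap A L (Ideal.Quotient.mk p s))
    rw [IsScalarTower.algebraMap_apply A K L, j.commutes]
    exact ((IsFractionRing.lift_algebraMap hω' (Ideal.Quotient.mk p s)).trans (RingHom.kerLift_mk _ _)).symm
  haveI hgc := GeomIrred.geometricallyConnected_of_connectedSpace (k := L)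
    (pullback.snd (Spec.map (CommRingCat.ofHom (algebraMap RS RX))) (Spec.map (CommRingCat.ofHom (algebraMap RS L))))
  rw [hfac]
  let a := Spec.map (CommRingCat.ofHom j.toRingHom)
  let s := pullback.snd (Spec.map (CommRingCat.ofHom (algebraMap RS RX))) (Spec.map (CommRingCat.ofHom (algebraMap RS L)))
  haveI : ConnectedSpace ↥(pullback s a) :=
    hgc.geometrically_connectedSpace a (pullback.fst s a) (pullback.snd s a) (IsPullback.of_hasPullback s a)
  let e := pullbackLeftPullbackSndIso (Spec.map (CommRingCat.ofHom (algebraMap RS RX)))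
    (Spec.map (CommRingCat.ofHom (algebraMap RS L))) a
  exact GeomIrred.connectedSpace_of_surjective e.hom e.hom.surjective inferInstance

/-- For a smooth morphism the maps of strict localizations have connected geometric fibres. -/
theorem connectedSpace_fibre_of_smooth {X S : Scheme.{u}} (f : X ⟶ S) [Smooth f] (x : X) (RS : Type u) [CommRing RS]
    [IsLocalRing RS] [Algebra (S.presheaf.stalk (f.base x)) RS]
    [IsLocalHom (algebraMap (S.presheaf.stalk (f.base x)) RS)]
    [Hensel.IsStrictHenselization (S.presheaf.stalk (f.base x)) RS]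
    (RX : Type u) [CommRing RX] [IsLocalRing RX] [Algebra (X.presheaf.stalk x) RX]
    [IsLocalHom (algebraMap (X.presheaf.stalk x) RX)] [Hensel.IsStrictHenselization (X.presheaf.stalk x) RX]
    (ψ : RS →+* RX) [IsLocalHom ψ]
    (hψ : ψ.comp (algebraMap (S.presheaf.stalk (f.base x)) RS) =
      (algebraMap (X.presheaf.stalk x) RX).comp (f.stalkMap x).hom)
    (Ω : Type u) [Field Ω] [IsAlgClosed Ω] (η : Spec (CommRingCat.of Ω) ⟶ Spec (CommRingCat.of RS)) :
    ConnectedSpace ↥(pullback (Spec.map (CommRingCat.ofHom ψ)) η) := by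
  obtain ⟨U₀, hU₀, hxU₀, -⟩ := exists_isAffineOpen_mem_and_subset (X := S) (U := ⊤) (x := f.base x) trivial
  obtain ⟨W, hW, hxW, hWU⟩ := exists_isAffineOpen_mem_and_subset (X := X) (U := f ⁻¹ᵁ U₀) (x := x) hxU₀
  let V := Γ(S, U₀)
  let P := Γ(X, W)
  letI : Algebra V P := (f.appLE U₀ W hWU).hom.toAlgebra
  haveI : Algebra.Smooth V P := f.smooth_appLE hU₀ hW hWU
  letI : Algebra V (S.presheaf.stalk (f.base x)) := (S.presheaf.germ U₀ (f.base x) hxU₀).hom.toAlgebra
  haveI : IsLocalization.AtPrime (S.presheaf.stalk (f.base x)) (hU₀.primeIdealOf ⟨f.base x, hxU₀⟩).asIdeal :=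
    hU₀.isLocalization_stalk ⟨f.base x, hxU₀⟩
  letI : Algebra P (X.presheaf.stalk x) := (X.presheaf.germ W x hxW).hom.toAlgebra
  haveI : IsLocalization.AtPrime (X.presheaf.stalk x) (hW.primeIdealOf ⟨x, hxW⟩).asIdeal :=
    hW.isLocalization_stalk ⟨x, hxW⟩
  haveI := WLocalLib.weaklyEtale_of_isLocalization (B := V) (B' := S.presheaf.stalk (f.base x))
    (hU₀.primeIdealOf ⟨f.base x, hxU₀⟩).asIdeal.primeCompl
  haveI := WLocalLib.weaklyEtale_of_isLocalization (B := P) (B' := X.presheaf.stalk x)
    (hW.primeIdealOf ⟨x, hxW⟩).asIdeal.primeCompl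
  haveI := S1467.weaklyEtale_sh (S.presheaf.stalk (f.base x)) RS
  haveI := S1467.weaklyEtale_sh (X.presheaf.stalk x) RX
  letI : Algebra V RS := ((algebraMap (S.presheaf.stalk (f.base x)) RS).comp
    (algebraMap V (S.presheaf.stalk (f.base x)))).toAlgebra
  haveI : IsScalarTower V (S.presheaf.stalk (f.base x)) RS := IsScalarTower.of_algebraMap_eq fun _ => rfl
  letI : Algebra P RX := ((algebraMap (X.presheaf.stalk x) RX).comp (algebraMap P (X.presheaf.stalk x))).toAlgebra
  haveI : IsScalarTower P (X.presheaf.stalk x) RX := IsScalarTower.of_algebraMap_eq fun _ => rfl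
  haveI : Algebra.WeaklyEtale V RS := Algebra.WeaklyEtale.trans V (S.presheaf.stalk (f.base x)) RS
  haveI : Algebra.WeaklyEtale P RX := Algebra.WeaklyEtale.trans P (X.presheaf.stalk x) RX
  letI : Algebra RS RX := ψ.toAlgebra
  haveI : IsLocalHom (algebraMap RS RX) := ‹IsLocalHom ψ›
  letI : Algebra V RX := ((algebraMap P RX).comp (algebraMap V P)).toAlgebra
  haveI : IsScalarTower V P RX := IsScalarTower.of_algebraMap_eq fun _ => rfl
  have hg : f.appLE U₀ W hWU ≫ X.presheaf.germ W x hxW = S.presheaf.germ U₀ (f.base x) hxU₀ ≫ f.stalkMap x := by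
    rw [Scheme.Hom.germ_stalkMap, Scheme.Hom.appLE, Category.assoc, TopCat.Presheaf.germ_res]
  haveI : IsScalarTower V RS RX := IsScalarTower.of_algebraMap_eq fun v => by
    show algebraMap (X.presheaf.stalk x) RX ((f.appLE U₀ W hWU ≫ X.presheaf.germ W x hxW).hom v) = _
    rw [hg]
    exact (RingHom.congr_fun hψ ((S.presheaf.germ U₀ (f.base x) hxU₀).hom v)).symm
  haveI := Hensel.IsStrictHenselization.henselian (R := S.presheaf.stalk (f.base x)) (S := RS)
  haveI : IsSepClosed (ResidueField RS) :=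
    (Hensel.IsStrictHenselization.isSepClosure (R := S.presheaf.stalk (f.base x)) (S := RS)).sep_closed
  haveI : Flat f := inferInstance
  letI : Algebra (S.presheaf.stalk (f.base x)) RX := (ψ.comp (algebraMap (S.presheaf.stalk (f.base x)) RS)).toAlgebra
  haveI : IsScalarTower (S.presheaf.stalk (f.base x)) RS RX := IsScalarTower.of_algebraMap_eq fun _ => rfl
  haveI : Module.Flat (S.presheaf.stalk (f.base x)) RX := by
    show (ψ.comp (algebraMap (S.presheaf.stalk (f.base x)) RS)).Flat
    rw [hψ]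
    exact RingHom.Flat.comp (Flat.stalkMap f x) (RingHom.flat_algebraMap_iff.2 inferInstance)
  haveI : Module.Flat RS RX := WLocalLib.flat_of_weaklyEtale (A := S.presheaf.stalk (f.base x)) RX
  exact connectedSpace_geomFibre (V := V) (P := P) (RX := RX) η

end Groth.Agent.SmoothConnLib
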